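import Mathlib
import Groth.Agent.H1.FlatLocusOpen

/-!
# Transfer of pointwise flatness along a flat / integral map of algebras (helper70)

`A' → B' → C'`, `M'` a `B'`-module, `N' = C' ⊗_{B'} M'`.
* `flatAt_of_flat_ascent`  : `C'` flat over `B'`, `r` over `q`: `M'_q` flat/`A'` ⇒ `N'_r` flat/`A'`.
* `flatAt_of_flat_descent` : `C'` flat over `B'`, `q C' ⊆ r`: `N'_r` flat/`A'` ⇒ `M'_q` flat/`A'`.
-/

set_option autoImplicit false
set_option linter.style.haveILetI false
universe u
open scoped TensorProduct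
open Function (Injective Surjective Exact)

namespace Groth.Agent.H70.FlatAbove

open Groth.Agent.H1.FlatLocus

section L

variable {B' C' : Type u} [CommRing B'] [CommRing C'] [Algebra B' C']
  {K : Type u} [AddCommGroup K] [Module B' K]

/-- If every element of `K` is killed by an element outside `q`, every element of `C' ⊗ K` is
killed by an element outside a prime `r` lying over `q`. -/
theorem exists_smul_eq_zero_tensor (q : Ideal B') (r : Ideal C') [r.IsPrime]
    (hqr : r.comap (algebraMap B' C') ≤ q)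
    (h : ∀ k : K, ∃ s : B', s ∉ q ∧ s • k = 0) (w : C' ⊗[B'] K) :
    ∃ t : C', t ∉ r ∧ t • w = 0 := by
  induction w using TensorProduct.induction_on with
  | zero => exact ⟨1, fun h1 => (Ideal.IsPrime.ne_top inferInstance)
      ((Ideal.eq_top_iff_one r).mpr h1), by simp⟩
  | tmul c k =>
    obtain ⟨s, hs, hsk⟩ := h k
    refine ⟨algebraMap B' C' s, fun hmem => hs (hqr hmem), ?_⟩
    have e1 : algebraMap B' C' s • (c ⊗ₜ[B'] k) = (s • c) ⊗ₜ[B'] k := by
      rw [TensorProduct.smul_tmul', Algebra.smul_def s c, smul_eq_mul]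
    rw [e1, TensorProduct.smul_tmul, hsk, TensorProduct.tmul_zero]
  | add a b ha hb =>
    obtain ⟨t₁, h₁, e₁⟩ := ha
    obtain ⟨t₂, h₂, e₂⟩ := hb
    refine ⟨t₁ * t₂, fun hmem => (Ideal.IsPrime.mem_or_mem inferInstance hmem).elim h₁ h₂, ?_⟩
    have ea : (t₁ * t₂) • a = 0 := by rw [mul_comm, mul_smul, e₁, smul_zero]
    have eb : (t₁ * t₂) • b = 0 := by rw [mul_smul, e₂, smul_zero]
    rw [smul_add, ea, eb, add_zero]

/-- Flat descent of annihilators: if `t • (1 ⊗ k) = 0` in `C' ⊗ K`, `C'` flat over `B'`, and the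
annihilator of `k` is contained in the contraction of the ideal `r`, then `t ∈ r`. -/
theorem mem_of_smul_one_tmul_eq_zero [Module.Flat B' C'] (k : K) (r : Ideal C')
    (hann : ∀ s : B', s • k = 0 → algebraMap B' C' s ∈ r) (t : C')
    (ht : t • ((1 : C') ⊗ₜ[B'] k) = 0) : t ∈ r := by
  let φ : B' →ₗ[B'] K := LinearMap.toSpanSingleton B' K k
  let 𝔞 : Ideal B' := LinearMap.ker φ
  let ψ : (B' ⧸ 𝔞) →ₗ[B'] K := Submodule.liftQ 𝔞 φ le_rfl
  have hψ : Injective ψ := by
    rw [← LinearMap.ker_eq_bot]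
    exact Submodule.ker_liftQ_eq_bot _ _ _ le_rfl
  have hinj : Injective (ψ.lTensor C') :=
    Module.Flat.lTensor_preserves_injective_linearMap ψ hψ
  -- the map to `C' ⧸ r`
  let lam₀ : B' →ₗ[B'] (C' ⧸ r) :=
    ((Ideal.Quotient.mkₐ B' r).toLinearMap).comp (Algebra.linearMap B' C')
  have hlam₀ : 𝔞 ≤ LinearMap.ker lam₀ := by
    intro s hs
    have hs' : s • k = 0 := by
      have : φ s = 0 := hs
      simpa [φ, LinearMap.toSpanSingleton_apply] using this
    rw [LinearMap.mem_ker]
    change (Ideal.Quotient.mk r) (algebraMap B' C' s) = 0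
    rw [Ideal.Quotient.eq_zero_iff_mem]
    exact hann s hs'
  let lam : (B' ⧸ 𝔞) →ₗ[B'] (C' ⧸ r) := Submodule.liftQ 𝔞 lam₀ hlam₀
  let Λ : C' ⊗[B'] (B' ⧸ 𝔞) →ₗ[C'] (C' ⧸ r) := LinearMap.liftBaseChange C' lam
  have h1 : ψ.lTensor C' ((1 : C') ⊗ₜ[B'] (Submodule.Quotient.mk (1 : B'))) = (1 : C') ⊗ₜ[B'] k := by
    rw [LinearMap.lTensor_tmul]
    congr 1
    change φ 1 = k
    simp [φ, LinearMap.toSpanSingleton_apply]
  have h2 : t • ((1 : C') ⊗ₜ[B'] (Submodule.Quotient.mk (1 : B') : B' ⧸ 𝔞)) = 0 := by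
    apply hinj
    rw [map_zero]
    have : ψ.lTensor C' (t • ((1 : C') ⊗ₜ[B'] (Submodule.Quotient.mk (1 : B') : B' ⧸ 𝔞))) =
        t • ψ.lTensor C' ((1 : C') ⊗ₜ[B'] (Submodule.Quotient.mk (1 : B') : B' ⧸ 𝔞)) := by
      rw [TensorProduct.smul_tmul', LinearMap.lTensor_tmul, LinearMap.lTensor_tmul,
        TensorProduct.smul_tmul']
    rw [this, h1, ht]
  have h3 := congrArg Λ h2
  rw [map_smul, map_zero, LinearMap.liftBaseChange_tmul] at h3
  have h4 : lam (Submodule.Quotient.mk (1 : B')) = (1 : C' ⧸ r) := by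
    change lam₀ 1 = 1
    simp [lam₀]
  rw [h4] at h3
  have h5 : (Ideal.Quotient.mk r) t = 0 := by
    have : t • (1 : C' ⧸ r) = (Ideal.Quotient.mk r) t := by
      rw [Algebra.smul_def, mul_one]; rfl
    rw [← this]; simpa using h3
  exact Ideal.Quotient.eq_zero_iff_mem.mp h5

end L

section T

variable {A' B' C' : Type u} [CommRing A'] [CommRing B'] [CommRing C']
  [Algebra A' B'] [Algebra A' C'] [Algebra B' C'] [IsScalarTower A' B' C']
  {M' N' : Type u} [AddCommGroup M'] [Module B' M'] [Module A' M'] [IsScalarTower A' B' M']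
  [AddCommGroup N'] [Module C' N'] [Module B' N'] [Module A' N'] [IsScalarTower B' C' N']
  [IsScalarTower A' C' N'] [IsScalarTower A' B' N']

/-- naturality of `h ⊗ id` with respect to `id ⊗ u` -/
theorem map_comm {Q₁ Q₂ : Type u} [AddCommGroup Q₁] [Module A' Q₁] [AddCommGroup Q₂]
    [Module A' Q₂] (h : M' →ₗ[B'] N') (u : Q₁ →ₗ[A'] Q₂) (x : M' ⊗[A'] Q₁) :
    u.lTensor N' (TensorProduct.AlgebraTensorModule.map h (LinearMap.id : Q₁ →ₗ[A'] Q₁) x) =
      TensorProduct.AlgebraTensorModule.map h (LinearMap.id : Q₂ →ₗ[A'] Q₂) (u.lTensor M' x) := by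
  induction x using TensorProduct.induction_on with
  | zero => simp
  | tmul m i => rfl
  | add a b ha hb => simp only [map_add, ha, hb]

/-- **Descent of pointwise flatness along a flat map of algebras.** -/
theorem flatAt_of_flat_descent [Module.Flat B' C'] (h : M' →ₗ[B'] N') (hh : IsBaseChange C' h)
    (q : Ideal B') [q.IsPrime] (r : Ideal C') [r.IsPrime]
    (hqr : q ≤ r.comap (algebraMap B' C'))
    (hr : Module.Flat A' (LocalizedModule r.primeCompl N')) :
    Module.Flat A' (LocalizedModule q.primeCompl M') := by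
  rw [flat_localizedModule_iff] at hr ⊢
  intro I z hz
  let H : M' ⊗[A'] I →ₗ[B'] N' ⊗[A'] I :=
    TensorProduct.AlgebraTensorModule.map h (LinearMap.id : I →ₗ[A'] I)
  have hH : IsBaseChange C' H := isBaseChange_tensorProduct_map C' hh
  have hz' : LinearMap.lTensor N' I.subtype (H z) = 0 := by
    rw [map_comm h I.subtype z, hz, map_zero]
  obtain ⟨t, ht, htz⟩ := hr I (H z) hz'
  have h1 : t • ((1 : C') ⊗ₜ[B'] z) = 0 := by
    apply hH.equiv.injective
    rw [map_smul, hH.equiv_tmul, one_smul, htz, map_zero]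
  by_contra hcon
  push Not at hcon
  apply ht
  refine mem_of_smul_one_tmul_eq_zero (K := M' ⊗[A'] I) z r (fun s hs => hqr ?_) t h1
  by_contra hsq
  exact hcon s hsq hs

/-- **Ascent of pointwise flatness along a flat map of algebras.** -/
theorem flatAt_of_flat_ascent [Module.Flat B' C'] (h : M' →ₗ[B'] N') (hh : IsBaseChange C' h)
    (q : Ideal B') [q.IsPrime] (r : Ideal C') [r.IsPrime]
    (hqr : r.comap (algebraMap B' C') ≤ q)
    (hq : Module.Flat A' (LocalizedModule q.primeCompl M')) :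
    Module.Flat A' (LocalizedModule r.primeCompl N') := by
  rw [flat_localizedModule_iff] at hq ⊢
  intro I z hz
  let HX : M' ⊗[A'] I →ₗ[B'] N' ⊗[A'] I :=
    TensorProduct.AlgebraTensorModule.map h (LinearMap.id : I →ₗ[A'] I)
  let HY : M' ⊗[A'] A' →ₗ[B'] N' ⊗[A'] A' :=
    TensorProduct.AlgebraTensorModule.map h (LinearMap.id : A' →ₗ[A'] A')
  have hHX : IsBaseChange C' HX := isBaseChange_tensorProduct_map C' hh
  have hHY : IsBaseChange C' HY := isBaseChange_tensorProduct_map C' hh
  let φ : M' ⊗[A'] I →ₗ[B'] M' ⊗[A'] A' :=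
    TensorProduct.AlgebraTensorModule.map (LinearMap.id : M' →ₗ[B'] M') (I.subtype : I →ₗ[A'] A')
  have hφ : ∀ x, φ x = LinearMap.lTensor M' I.subtype x := by
    intro x
    induction x using TensorProduct.induction_on with
    | zero => simp
    | tmul m i => rfl
    | add a b ha hb => simp only [map_add, ha, hb]
  let K : Submodule B' (M' ⊗[A'] I) := LinearMap.ker φ
  have hex : Exact K.subtype φ := LinearMap.exact_subtype_ker_map φ
  have hex' : Exact (K.subtype.lTensor C') (φ.lTensor C') := Module.Flat.lTensor_exact C' hex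
  let zt : C' ⊗[B'] (M' ⊗[A'] I) := hHX.equiv.symm z
  have hnat : ∀ y : C' ⊗[B'] (M' ⊗[A'] I),
      hHY.equiv (φ.lTensor C' y) = LinearMap.lTensor N' I.subtype (hHX.equiv y) := by
    intro y
    induction y using TensorProduct.induction_on with
    | zero => simp
    | tmul c x =>
      rw [LinearMap.lTensor_tmul, hHY.equiv_tmul, hHX.equiv_tmul]
      have e1 : LinearMap.lTensor N' I.subtype (c • HX x) =
          c • LinearMap.lTensor N' I.subtype (HX x) := by
        have := (TensorProduct.AlgebraTensorModule.map (LinearMap.id : N' →ₗ[C'] N')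
          (I.subtype : I →ₗ[A'] A')).map_smul c (HX x)
        have e2 : ∀ y : N' ⊗[A'] I, (TensorProduct.AlgebraTensorModule.map
            (LinearMap.id : N' →ₗ[C'] N') (I.subtype : I →ₗ[A'] A')) y =
            LinearMap.lTensor N' I.subtype y := by
          intro y
          induction y using TensorProduct.induction_on with
          | zero => simp
          | tmul m i => rfl
          | add a b ha hb => simp only [map_add, ha, hb]
        rw [e2, e2] at this
        exact this
      rw [e1, map_comm h I.subtype x, hφ]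
    | add a b ha hb => simp only [map_add, ha, hb]
  have hzt : φ.lTensor C' zt = 0 := by
    apply hHY.equiv.injective
    rw [hnat, map_zero]
    change LinearMap.lTensor N' I.subtype (hHX.equiv (hHX.equiv.symm z)) = 0
    rw [LinearEquiv.apply_symm_apply, hz]
  obtain ⟨w, hw⟩ := (hex' zt).mp hzt
  have hK : ∀ k : K, ∃ s : B', s ∉ q ∧ s • k = 0 := by
    intro k
    have hk : LinearMap.lTensor M' I.subtype (k : M' ⊗[A'] I) = 0 := by
      rw [← hφ]; exact k.2
    obtain ⟨s, hs, hsk⟩ := hq I k hk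
    exact ⟨s, hs, Subtype.ext hsk⟩
  obtain ⟨t, ht, htw⟩ := exists_smul_eq_zero_tensor q r hqr hK w
  refine ⟨t, ht, ?_⟩
  have h1 : t • zt = 0 := by
    rw [← hw]
    have : t • (K.subtype.lTensor C') w = (K.subtype.baseChange C') (t • w) := by
      rw [map_smul]; rfl
    rw [this, htw, map_zero]
  have h2 : z = hHX.equiv zt := (LinearEquiv.apply_symm_apply _ _).symm
  rw [h2, ← map_smul, h1, map_zero]

end T

end Groth.Agent.H70.FlatAbove
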