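import Mathlib
import Groth.Agent.H70.FlatAbove.Core

/-!
# Transfer of pointwise flatness along an integral map of algebras, same module (helper70)
-/

set_option autoImplicit false
set_option linter.style.haveILetI false
universe u
open scoped TensorProduct
open Function (Injective Surjective Exact)

namespace Groth.Agent.H70.FlatAbove

open Groth.Agent.H1.FlatLocus

section T

variable {A' B' C' : Type u} [CommRing A'] [CommRing B'] [CommRing C']
  [Algebra A' B'] [Algebra A' C'] [Algebra B' C'] [IsScalarTower A' B' C']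
  {M' N' : Type u} [AddCommGroup M'] [Module B' M'] [Module A' M'] [IsScalarTower A' B' M']
  [AddCommGroup N'] [Module C' N'] [Module B' N'] [Module A' N'] [IsScalarTower B' C' N']
  [IsScalarTower A' C' N'] [IsScalarTower A' B' N']

theorem map_symm_map (e : M' ≃ₗ[B'] N') {Q : Type u} [AddCommGroup Q] [Module A' Q]
    (z : N' ⊗[A'] Q) :
    TensorProduct.AlgebraTensorModule.map e.toLinearMap (LinearMap.id : Q →ₗ[A'] Q)
      (TensorProduct.AlgebraTensorModule.map e.symm.toLinearMap (LinearMap.id : Q →ₗ[A'] Q) z) =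
      z := by
  induction z using TensorProduct.induction_on with
  | zero => simp
  | tmul n i => simp
  | add a b ha hb => simp only [map_add, ha, hb]

theorem map_map_symm (e : M' ≃ₗ[B'] N') {Q : Type u} [AddCommGroup Q] [Module A' Q]
    (z : M' ⊗[A'] Q) :
    TensorProduct.AlgebraTensorModule.map e.symm.toLinearMap (LinearMap.id : Q →ₗ[A'] Q)
      (TensorProduct.AlgebraTensorModule.map e.toLinearMap (LinearMap.id : Q →ₗ[A'] Q) z) =
      z := by
  induction z using TensorProduct.induction_on with
  | zero => simp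
  | tmul n i => simp
  | add a b ha hb => simp only [map_add, ha, hb]

/-- Ascent when `N'` is the same module as `M'`, with a bigger ring `C'` acting. -/
theorem flatAt_of_equiv_ascent (e : M' ≃ₗ[B'] N')
    (q : Ideal B') [q.IsPrime] (r : Ideal C') [r.IsPrime]
    (hqr : r.comap (algebraMap B' C') ≤ q)
    (hq : Module.Flat A' (LocalizedModule q.primeCompl M')) :
    Module.Flat A' (LocalizedModule r.primeCompl N') := by
  rw [flat_localizedModule_iff] at hq ⊢
  intro I z hz
  let E : N' ⊗[A'] I →ₗ[B'] M' ⊗[A'] I :=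
    TensorProduct.AlgebraTensorModule.map e.symm.toLinearMap (LinearMap.id : I →ₗ[A'] I)
  let E' : M' ⊗[A'] I →ₗ[B'] N' ⊗[A'] I :=
    TensorProduct.AlgebraTensorModule.map e.toLinearMap (LinearMap.id : I →ₗ[A'] I)
  have hz₀ : LinearMap.lTensor M' I.subtype (E z) = 0 := by
    rw [map_comm e.symm.toLinearMap I.subtype z, hz, map_zero]
  obtain ⟨s, hs, hsz⟩ := hq I (E z) hz₀
  refine ⟨algebraMap B' C' s, fun hmem => hs (hqr hmem), ?_⟩
  rw [algebraMap_smul]
  have : z = E' (E z) := (map_symm_map e z).symm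
  rw [this, ← map_smul, hsz, map_zero]

/-- Descent along an integral map when `N'` is the same module as `M'`. -/
theorem flatAt_of_equiv_descent [Algebra.IsIntegral B' C'] (e : M' ≃ₗ[B'] N')
    (q : Ideal B') [q.IsPrime]
    (hr : ∀ (r : Ideal C') [r.IsPrime], r.comap (algebraMap B' C') = q →
      Module.Flat A' (LocalizedModule r.primeCompl N')) :
    Module.Flat A' (LocalizedModule q.primeCompl M') := by
  rw [flat_localizedModule_iff]
  intro I z hz
  let E : N' ⊗[A'] I →ₗ[B'] M' ⊗[A'] I :=
    TensorProduct.AlgebraTensorModule.map e.symm.toLinearMap (LinearMap.id : I →ₗ[A'] I)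
  let E' : M' ⊗[A'] I →ₗ[B'] N' ⊗[A'] I :=
    TensorProduct.AlgebraTensorModule.map e.toLinearMap (LinearMap.id : I →ₗ[A'] I)
  have hz₁ : LinearMap.lTensor N' I.subtype (E' z) = 0 := by
    rw [map_comm e.toLinearMap I.subtype z, hz, map_zero]
  let 𝔠 : Ideal C' := LinearMap.ker (LinearMap.toSpanSingleton C' (N' ⊗[A'] I) (E' z))
  have h𝔠 : ∀ t : C', t ∈ 𝔠 ↔ t • E' z = 0 := by
    intro t
    rw [LinearMap.mem_ker, LinearMap.toSpanSingleton_apply]
  by_contra hcon
  push Not at hcon
  have hle : 𝔠.comap (algebraMap B' C') ≤ q := by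
    intro s hs
    rw [Ideal.mem_comap, h𝔠, algebraMap_smul, ← map_smul] at hs
    by_contra hsq
    apply hcon s hsq
    have := congrArg E hs
    rw [map_zero] at this
    rw [← map_map_symm e (s • z)]
    exact this
  obtain ⟨r, h𝔠r, hrp, hrq⟩ := Ideal.exists_ideal_over_prime_of_isIntegral q 𝔠 hle
  haveI := hrp
  have hflat := hr r hrq
  rw [flat_localizedModule_iff] at hflat
  obtain ⟨t, ht, htz⟩ := hflat I (E' z) hz₁
  exact ht (h𝔠r ((h𝔠 t).mpr htz))

end T

end Groth.Agent.H70.FlatAbove
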