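import Mathlib
import Groth.Agent.H70.FlatAbove.CoreInt
import Groth.Agent.H70.FlatAtBC.Basic
import Groth.Prelude.Def_FlatCA

/-!
# `FlatAboveClosedPoints` is insensitive to finite local extensions `B → C` (helper70)
-/

set_option autoImplicit false
set_option linter.style.haveILetI false
set_option maxHeartbeats 1000000
universe u
open scoped TensorProduct
open Function (Injective Surjective Exact)

namespace Groth.Agent.H70.FlatAbove

/-- `FlatAboveClosedPoints` for a `C`-module `N`, viewed over `B` or over `C`, for a finite local
homomorphism `B → C`, after any local base change `A → A'`. -/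
theorem flatAbove_iff_of_finite {A B C : Type u} [CommRing A] [IsLocalRing A] [CommRing B]
    [IsLocalRing B] [CommRing C] [IsLocalRing C]
    [Algebra A B] [IsLocalHom (algebraMap A B)] [Algebra B C] [IsLocalHom (algebraMap B C)]
    [Algebra A C] [IsScalarTower A B C] [Module.Finite B C]
    (N : Type u) [AddCommGroup N] [Module C N] [Module B N] [IsScalarTower B C N]
    (A' : Type u) [CommRing A'] [IsLocalRing A'] [Algebra A A'] [IsLocalHom (algebraMap A A')]
    (B' M' : Type u) [CommRing B'] [Algebra B B'] [Algebra A' B'] [Algebra A B']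
        [IsScalarTower A B B'] [IsScalarTower A A' B']
        [Algebra.IsPushout A B A' B']
        [AddCommGroup M'] [Module B' M'] [Module B M'] [IsScalarTower B B' M'] [Module A' M']
        [IsScalarTower A' B' M']
        (fB : N →ₗ[B] M') (hfB : IsBaseChange B' fB)
    (C' N' : Type u) [CommRing C'] [Algebra C C'] [Algebra A' C'] [Algebra A C']
        [IsScalarTower A C C'] [IsScalarTower A A' C']
        [Algebra.IsPushout A C A' C']
        [AddCommGroup N'] [Module C' N'] [Module C N'] [IsScalarTower C C' N'] [Module A' N']
        [IsScalarTower A' C' N']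
        (fC : N →ₗ[C] N') (hfC : IsBaseChange C' fC) :
    FlatCA.FlatAboveClosedPoints B A' B' M' ↔ FlatCA.FlatAboveClosedPoints C A' C' N' := by
  classical
  -- ring structure `B → C'`
  letI algBC' : Algebra B C' := ((algebraMap C C').comp (algebraMap B C)).toAlgebra
  haveI tBCC' : IsScalarTower B C C' := IsScalarTower.of_algebraMap_eq (fun x => rfl)
  haveI tABC' : IsScalarTower A B C' := IsScalarTower.of_algebraMap_eq (fun x => by
    rw [IsScalarTower.algebraMap_apply A C C', IsScalarTower.algebraMap_apply A B C]; rfl)
  -- ring structure `B' → C'`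
  let ρ : B' →ₐ[A] C' := Algebra.pushoutDesc B' (IsScalarTower.toAlgHom A B C')
    (IsScalarTower.toAlgHom A A' C') (fun _ _ => mul_comm _ _)
  letI algB'C' : Algebra B' C' := ρ.toRingHom.toAlgebra
  have hρl : ∀ b : B, algebraMap B' C' (algebraMap B B' b) = algebraMap B C' b := fun b =>
    Algebra.pushoutDesc_left B' (IsScalarTower.toAlgHom A B C')
      (IsScalarTower.toAlgHom A A' C') (fun _ _ => mul_comm _ _) b
  have hρr : ∀ a : A', algebraMap B' C' (algebraMap A' B' a) = algebraMap A' C' a := fun a =>
    Algebra.pushoutDesc_right B' (IsScalarTower.toAlgHom A B C')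
      (IsScalarTower.toAlgHom A A' C') (fun _ _ => mul_comm _ _) a
  haveI tBB'C' : IsScalarTower B B' C' := IsScalarTower.of_algebraMap_eq (fun x => (hρl x).symm)
  haveI tA'B'C' : IsScalarTower A' B' C' := IsScalarTower.of_algebraMap_eq (fun x => (hρr x).symm)
  haveI tAB'C' : IsScalarTower A B' C' := IsScalarTower.of_algebraMap_eq (fun x => by
    rw [IsScalarTower.algebraMap_apply A A' B', hρr, ← IsScalarTower.algebraMap_apply A A' C'])
  haveI pushBC : Algebra.IsPushout B C B' C' :=
    (Algebra.IsPushout.comp_iff A B A' (S' := B') (T := C) (T' := C')).mp inferInstance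
  haveI finB'C' : Module.Finite B' C' :=
    Module.Finite.equiv (Algebra.IsPushout.symm pushBC).out.equiv
  haveI intB'C' : Algebra.IsIntegral B' C' := Algebra.IsIntegral.of_finite B' C'
  -- module structures on `N'`
  letI modBN' : Module B N' := Module.compHom N' (algebraMap B C)
  haveI tBCN' : IsScalarTower B C N' := IsScalarTower.of_algebraMap_smul (fun b n => rfl)
  letI modB'N' : Module B' N' := Module.compHom N' (algebraMap B' C')
  haveI tB'C'N' : IsScalarTower B' C' N' := IsScalarTower.of_algebraMap_smul (fun b n => rfl)
  haveI tA'B'N' : IsScalarTower A' B' N' := IsScalarTower.of_algebraMap_smul (fun a n => by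
    change algebraMap B' C' (algebraMap A' B' a) • n = a • n
    rw [hρr, algebraMap_smul])
  haveI tBB'N' : IsScalarTower B B' N' := IsScalarTower.of_algebraMap_smul (fun b n => by
    change algebraMap B' C' (algebraMap B B' b) • n = algebraMap B C b • n
    rw [hρl]
    change algebraMap C C' (algebraMap B C b) • n = algebraMap B C b • n
    rw [algebraMap_smul])
  haveI tBC'N' : IsScalarTower B C' N' := IsScalarTower.of_algebraMap_smul (fun b n => by
    change algebraMap C C' (algebraMap B C b) • n = algebraMap B C b • n
    rw [algebraMap_smul])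
  -- `N'` is also the base change of `N` along `B → B'`
  have hN' : IsBaseChange B' (fC.restrictScalars B) :=
    Groth.Agent.H70.FlatAtBC.isBaseChange_restrictScalars (R := B) (S := C) (R' := B') (S' := C')
      fC hfC
  let e : M' ≃ₗ[B'] N' := hfB.equiv.symm ≪≫ₗ hN'.equiv
  have hloc : ∀ b ∈ IsLocalRing.maximalIdeal B, algebraMap B C b ∈ IsLocalRing.maximalIdeal C := by
    intro b hb
    rw [IsLocalRing.mem_maximalIdeal, mem_nonunits_iff] at hb ⊢
    intro hu
    exact hb (IsLocalHom.map_nonunit b hu)
  constructor
  · intro hM r _ hr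
    have hq : (IsLocalRing.maximalIdeal A').map (algebraMap A' B') ⊔
        (IsLocalRing.maximalIdeal B).map (algebraMap B B') ≤ r.comap (algebraMap B' C') := by
      rw [sup_le_iff, Ideal.map_le_iff_le_comap, Ideal.map_le_iff_le_comap]
      constructor
      · intro a ha
        rw [Ideal.mem_comap, Ideal.mem_comap, hρr]
        exact hr (Ideal.mem_sup_left (Ideal.mem_map_of_mem _ ha))
      · intro b hb
        rw [Ideal.mem_comap, Ideal.mem_comap, hρl]
        change algebraMap C C' (algebraMap B C b) ∈ r
        exact hr (Ideal.mem_sup_right (Ideal.mem_map_of_mem _ (hloc b hb)))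
    have := hM (r.comap (algebraMap B' C')) hq
    exact flatAt_of_equiv_ascent e (r.comap (algebraMap B' C')) r le_rfl this
  · intro hN q _ hq
    refine flatAt_of_equiv_descent e q (fun r _ hrq => hN r ?_)
    rw [sup_le_iff]
    constructor
    · rw [Ideal.map_le_iff_le_comap]
      intro a ha
      rw [Ideal.mem_comap, ← hρr]
      have : algebraMap A' B' a ∈ q := hq (Ideal.mem_sup_left (Ideal.mem_map_of_mem _ ha))
      rw [← hrq] at this
      exact this
    · rw [Ideal.map_le_iff_le_comap]
      -- the contraction of `r` to `C` is the maximal ideal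
      let r₀ : Ideal C := r.comap (algebraMap C C')
      haveI : r₀.IsPrime := Ideal.comap_isPrime _ _
      have hmB : IsLocalRing.maximalIdeal B ≤ r₀.comap (algebraMap B C) := by
        intro b hb
        rw [Ideal.mem_comap, Ideal.mem_comap]
        change algebraMap B C' b ∈ r
        rw [← hρl]
        have : algebraMap B B' b ∈ q := hq (Ideal.mem_sup_right (Ideal.mem_map_of_mem _ hb))
        rw [← hrq] at this
        exact this
      have hne : r₀.comap (algebraMap B C) ≠ ⊤ := Ideal.IsPrime.ne_top (Ideal.comap_isPrime _ _)
      have heq : r₀.comap (algebraMap B C) = IsLocalRing.maximalIdeal B :=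
        ((IsLocalRing.maximalIdeal.isMaximal B).eq_of_le hne hmB).symm
      haveI : Algebra.IsIntegral B C := Algebra.IsIntegral.of_finite B C
      have hmax : r₀.IsMaximal :=
        Ideal.isMaximal_of_isIntegral_of_isMaximal_comap r₀
          (heq ▸ IsLocalRing.maximalIdeal.isMaximal B)
      have : r₀ = IsLocalRing.maximalIdeal C := IsLocalRing.eq_maximalIdeal hmax
      rw [← this]

end Groth.Agent.H70.FlatAbove
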