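import Mathlib
import Groth.Agent.H70.FlatAbove.Core
import Groth.Prelude.Def_FlatCA

/-!
# `FlatAboveClosedPoints` is insensitive to flat local extensions `B → C` (helper70)
-/

set_option autoImplicit false
set_option linter.style.haveILetI false
set_option maxHeartbeats 1000000
universe u
open scoped TensorProduct
open Function (Injective Surjective Exact)

namespace Groth.Agent.H70.FlatAbove

section Proper

variable {B C B' C' : Type u} [CommRing B] [IsLocalRing B] [CommRing C] [IsLocalRing C]
  [CommRing B'] [CommRing C'] [Algebra B C] [IsLocalHom (algebraMap B C)]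
  [Algebra B B'] [Algebra C C'] [Algebra B' C'] [Algebra B C'] [IsScalarTower B C C']
  [IsScalarTower B B' C'] [Algebra.IsPushout B C B' C']

/-- For a prime `q ⊇ 𝔪_B B'` the ideal `q C' + 𝔪_C C'` is proper. -/
theorem map_sup_map_ne_top (q : Ideal B') [q.IsPrime]
    (hq : (IsLocalRing.maximalIdeal B).map (algebraMap B B') ≤ q) :
    q.map (algebraMap B' C') ⊔ (IsLocalRing.maximalIdeal C).map (algebraMap C C') ≠ ⊤ := by
  classical
  -- `B' ⧸ q` as an algebra over the residue field of `B`
  let κB := IsLocalRing.ResidueField B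
  let κC := IsLocalRing.ResidueField C
  let f₀ : B →+* (B' ⧸ q) := (Ideal.Quotient.mk q).comp (algebraMap B B')
  have hf₀ : ∀ a ∈ IsLocalRing.maximalIdeal B, f₀ a = 0 := by
    intro a ha
    change (Ideal.Quotient.mk q) (algebraMap B B' a) = 0
    rw [Ideal.Quotient.eq_zero_iff_mem]
    exact hq (Ideal.mem_map_of_mem _ ha)
  let f₁ : κB →+* (B' ⧸ q) := Ideal.Quotient.lift (IsLocalRing.maximalIdeal B) f₀ hf₀
  letI : Algebra κB (B' ⧸ q) := f₁.toAlgebra
  let L := κC ⊗[κB] (B' ⧸ q)
  haveI : Nontrivial L := inferInstance
  letI : Algebra B L := ((algebraMap κB L).comp (algebraMap B κB)).toAlgebra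
  -- the two maps
  let fC : C →ₐ[B] L :=
    { toRingHom := (Algebra.TensorProduct.includeLeftRingHom).comp (algebraMap C κC)
      commutes' := by
        intro b
        change ((algebraMap C κC) (algebraMap B C b)) ⊗ₜ[κB] (1 : B' ⧸ q) = algebraMap κB L (algebraMap B κB b)
        rw [Algebra.TensorProduct.algebraMap_apply]
        congr 1 }
  let fB' : B' →ₐ[B] L :=
    { toRingHom := (Algebra.TensorProduct.includeRight.toRingHom).comp (Ideal.Quotient.mk q)
      commutes' := by
        intro b
        change (1 : κC) ⊗ₜ[κB] ((Ideal.Quotient.mk q) (algebraMap B B' b)) =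
          algebraMap κB L (algebraMap B κB b)
        rw [Algebra.TensorProduct.algebraMap_apply]
        have : (Ideal.Quotient.mk q) (algebraMap B B' b) = algebraMap κB (B' ⧸ q) (algebraMap B κB b) := rfl
        rw [this, Algebra.algebraMap_eq_smul_one, ← TensorProduct.smul_tmul,
          ← Algebra.algebraMap_eq_smul_one] }
  let ρ : C' →ₐ[B] L := Algebra.pushoutDesc C' fC fB' (fun _ _ => mul_comm _ _)
  intro htop
  have h1 : (1 : C') ∈ q.map (algebraMap B' C') ⊔ (IsLocalRing.maximalIdeal C).map (algebraMap C C') := by
    rw [htop]; trivial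
  have hker : q.map (algebraMap B' C') ⊔ (IsLocalRing.maximalIdeal C).map (algebraMap C C') ≤
      RingHom.ker ρ.toRingHom := by
    rw [sup_le_iff, Ideal.map_le_iff_le_comap, Ideal.map_le_iff_le_comap]
    constructor
    · intro x hx
      rw [Ideal.mem_comap, RingHom.mem_ker]
      change ρ (algebraMap B' C' x) = 0
      rw [Algebra.pushoutDesc_right]
      change (1 : κC) ⊗ₜ[κB] ((Ideal.Quotient.mk q) x) = 0
      rw [Ideal.Quotient.eq_zero_iff_mem.mpr hx, TensorProduct.tmul_zero]
    · intro x hx
      rw [Ideal.mem_comap, RingHom.mem_ker]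
      change ρ (algebraMap C C' x) = 0
      rw [Algebra.pushoutDesc_left]
      change ((algebraMap C κC) x) ⊗ₜ[κB] (1 : B' ⧸ q) = 0
      have : algebraMap C κC x = 0 := by
        rw [IsLocalRing.ResidueField.algebraMap_eq, IsLocalRing.residue_eq_zero_iff]
        exact hx
      rw [this, TensorProduct.zero_tmul]
  have h2 := hker h1
  rw [RingHom.mem_ker] at h2
  have h3 : ρ.toRingHom 1 = 1 := map_one _
  rw [h3] at h2
  exact one_ne_zero h2

end Proper

section Main

/-- **Stacks-style invariance**: `FlatAboveClosedPoints` for `(B, M)` and for a flat local extension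
`(C, N = M ⊗_B C)` are equivalent, after any local base change `A → A'`. -/
theorem flatAbove_iff_of_flat {A B C : Type u} [CommRing A] [IsLocalRing A] [CommRing B]
    [IsLocalRing B] [CommRing C] [IsLocalRing C]
    [Algebra A B] [IsLocalHom (algebraMap A B)] [Algebra B C] [IsLocalHom (algebraMap B C)]
    [Algebra A C] [IsScalarTower A B C] [Module.Flat B C]
    (M : Type u) [AddCommGroup M] [Module B M] (N : Type u) [AddCommGroup N] [Module C N]
    [Module B N] [IsScalarTower B C N]
    (g : M →ₗ[B] N) (hg : IsBaseChange C g)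
    (A' : Type u) [CommRing A'] [IsLocalRing A'] [Algebra A A'] [IsLocalHom (algebraMap A A')]
    (B' M' : Type u) [CommRing B'] [Algebra B B'] [Algebra A' B'] [Algebra A B']
        [IsScalarTower A B B'] [IsScalarTower A A' B']
        [Algebra.IsPushout A B A' B']
        [AddCommGroup M'] [Module B' M'] [Module B M'] [IsScalarTower B B' M'] [Module A' M']
        [IsScalarTower A' B' M']
        (fB : M →ₗ[B] M') (hfB : IsBaseChange B' fB)
    (C' N' : Type u) [CommRing C'] [Algebra C C'] [Algebra A' C'] [Algebra A C']
        [IsScalarTower A C C'] [IsScalarTower A A' C']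
        [Algebra.IsPushout A C A' C']
        [AddCommGroup N'] [Module C' N'] [Module C N'] [IsScalarTower C C' N'] [Module A' N']
        [IsScalarTower A' C' N']
        (fC : N →ₗ[C] N') (hfC : IsBaseChange C' fC) :
    FlatCA.FlatAboveClosedPoints B A' B' M' ↔ FlatCA.FlatAboveClosedPoints C A' C' N' := by
  classical
  -- ring structure `B → C'`
  letI algBC' : Algebra B C' := ((algebraMap C C').comp (algebraMap B C)).toAlgebra
  haveI tBCC' : IsScalarTower B C C' := IsScalarTower.of_algebraMap_eq (fun x => rfl)
  haveI tABC' : IsScalarTower A B C' := IsScalarTower.of_algebraMap_eq (fun x => by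
    rw [IsScalarTower.algebraMap_apply A C C', IsScalarTower.algebraMap_apply A B C]; rfl)
  -- ring structure `B' → C'`
  let ρ : B' →ₐ[A] C' := Algebra.pushoutDesc B' (IsScalarTower.toAlgHom A B C')
    (IsScalarTower.toAlgHom A A' C') (fun _ _ => mul_comm _ _)
  letI algB'C' : Algebra B' C' := ρ.toRingHom.toAlgebra
  have hρl : ∀ b : B, algebraMap B' C' (algebraMap B B' b) = algebraMap B C' b := fun b =>
    Algebra.pushoutDesc_left B' (IsScalarTower.toAlgHom A B C')
      (IsScalarTower.toAlgHom A A' C') (fun _ _ => mul_comm _ _) b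
  have hρr : ∀ a : A', algebraMap B' C' (algebraMap A' B' a) = algebraMap A' C' a := fun a =>
    Algebra.pushoutDesc_right B' (IsScalarTower.toAlgHom A B C')
      (IsScalarTower.toAlgHom A A' C') (fun _ _ => mul_comm _ _) a
  haveI tBB'C' : IsScalarTower B B' C' := IsScalarTower.of_algebraMap_eq (fun x => (hρl x).symm)
  haveI tA'B'C' : IsScalarTower A' B' C' := IsScalarTower.of_algebraMap_eq (fun x => (hρr x).symm)
  haveI tAB'C' : IsScalarTower A B' C' := IsScalarTower.of_algebraMap_eq (fun x => by
    rw [IsScalarTower.algebraMap_apply A A' B', hρr, ← IsScalarTower.algebraMap_apply A A' C'])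
  haveI pushBC : Algebra.IsPushout B C B' C' :=
    (Algebra.IsPushout.comp_iff A B A' (S' := B') (T := C) (T' := C')).mp inferInstance
  haveI flatB'C' : Module.Flat B' C' :=
    Module.Flat.isBaseChange B B' C C' (Algebra.IsPushout.symm pushBC).out
  -- module structures on `N'`
  letI modBN' : Module B N' := Module.compHom N' (algebraMap B C)
  haveI tBCN' : IsScalarTower B C N' := IsScalarTower.of_algebraMap_smul (fun b n => rfl)
  letI modB'N' : Module B' N' := Module.compHom N' (algebraMap B' C')
  haveI tB'C'N' : IsScalarTower B' C' N' := IsScalarTower.of_algebraMap_smul (fun b n => rfl)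
  haveI tA'B'N' : IsScalarTower A' B' N' := IsScalarTower.of_algebraMap_smul (fun a n => by
    change algebraMap B' C' (algebraMap A' B' a) • n = a • n
    rw [hρr, algebraMap_smul])
  haveI tBB'N' : IsScalarTower B B' N' := IsScalarTower.of_algebraMap_smul (fun b n => by
    change algebraMap B' C' (algebraMap B B' b) • n = algebraMap B C b • n
    rw [hρl]
    change algebraMap C C' (algebraMap B C b) • n = algebraMap B C b • n
    rw [algebraMap_smul])
  haveI tBC'N' : IsScalarTower B C' N' := IsScalarTower.of_algebraMap_smul (fun b n => by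
    change algebraMap C C' (algebraMap B C b) • n = algebraMap B C b • n
    rw [algebraMap_smul])
  -- the comparison map
  let h : M' →ₗ[B'] N' := hfB.lift ((fC.restrictScalars B).comp g)
  have hcomp : (h.restrictScalars B).comp fB = (fC.restrictScalars B).comp g :=
    hfB.lift_comp _
  have hh : IsBaseChange C' h := by
    apply IsBaseChange.of_comp hfB
    have : ((h : M' →ₗ[B] N') ∘ₗ fB) = (fC.restrictScalars B).comp g := hcomp
    rw [this]
    exact IsBaseChange.comp hg hfC
  have hloc : ∀ b ∈ IsLocalRing.maximalIdeal B, algebraMap B C b ∈ IsLocalRing.maximalIdeal C := by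
    intro b hb
    rw [IsLocalRing.mem_maximalIdeal, mem_nonunits_iff] at hb ⊢
    intro hu
    exact hb (IsLocalHom.map_nonunit b hu)
  constructor
  · intro hM r _ hr
    have hq : (IsLocalRing.maximalIdeal A').map (algebraMap A' B') ⊔
        (IsLocalRing.maximalIdeal B).map (algebraMap B B') ≤ r.comap (algebraMap B' C') := by
      rw [sup_le_iff, Ideal.map_le_iff_le_comap, Ideal.map_le_iff_le_comap]
      constructor
      · intro a ha
        rw [Ideal.mem_comap, Ideal.mem_comap, hρr]
        exact hr (Ideal.mem_sup_left (Ideal.mem_map_of_mem _ ha))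
      · intro b hb
        rw [Ideal.mem_comap, Ideal.mem_comap, hρl]
        change algebraMap C C' (algebraMap B C b) ∈ r
        exact hr (Ideal.mem_sup_right (Ideal.mem_map_of_mem _ (hloc b hb)))
    have := hM (r.comap (algebraMap B' C')) hq
    exact flatAt_of_flat_ascent h hh (r.comap (algebraMap B' C')) r le_rfl this
  · intro hN q _ hq
    have hne := map_sup_map_ne_top (B := B) (C := C) (B' := B') (C' := C') q (le_sup_right.trans hq)
    obtain ⟨r, hrmax, hJr⟩ := Ideal.exists_le_maximal _ hne
    haveI : r.IsPrime := hrmax.isPrime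
    have hqr : q ≤ r.comap (algebraMap B' C') :=
      Ideal.map_le_iff_le_comap.mp (le_sup_left.trans hJr)
    have hr : (IsLocalRing.maximalIdeal A').map (algebraMap A' C') ⊔
        (IsLocalRing.maximalIdeal C).map (algebraMap C C') ≤ r := by
      rw [sup_le_iff]
      refine ⟨?_, le_sup_right.trans hJr⟩
      rw [Ideal.map_le_iff_le_comap]
      intro a ha
      rw [Ideal.mem_comap, ← hρr]
      apply hqr
      exact hq (Ideal.mem_sup_left (Ideal.mem_map_of_mem _ ha))
    have := hN r hr
    exact flatAt_of_flat_descent h hh q r hqr this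

end Main

end Groth.Agent.H70.FlatAbove
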